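import Groth.Agent.ColimPush7.Sections
import Groth.Agent.KFlatLib.Scheme.PushCoprod

/-!
# Filtered colimits of modules factoring through acyclic ones are acyclic
-/

set_option autoImplicit false
set_option linter.style.haveILetI false
set_option backward.isDefEq.respectTransparency false
set_option backward.isDefEq.respectTransparency.types false

universe u

open CategoryTheory CategoryTheory.Limits AlgebraicGeometry TopologicalSpace Opposite

namespace Groth.Agent.ColimPush7

open Groth.Agent.QCoh (abSheaf)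
open Groth.Agent.ZClosLib (res res_res app_res)
open Groth.Agent.QCoh.Ab

variable {X : Scheme.{u}} {J : Type u} [SmallCategory J] [IsFiltered J] {D : J ⥤ X.Modules} {c : Cocone D}

/-- The map on sections as presheaves of groups. -/
noncomputable abbrev abMap {M N : X.Modules} (g : M ⟶ N) :
    (abSheaf M).presheaf ⟶ (abSheaf N).presheaf :=
  ((QCoh.toAbFunctor X).map g).hom

theorem qcAcyclic_of_isColimit (hc : IsColimit c)
    (h : ∀ j, ∃ (k : J) (f : j ⟶ k) (A : X.Modules) (g : D.obj j ⟶ A) (g' : A ⟶ D.obj k),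
      KFlatLib.QcAcyclic A ∧ g ≫ g' = D.map f) : KFlatLib.QcAcyclic c.pt := by
  classical
  intro V hV ι U hU p q hqn hdq
  haveI : Finite ι := hU.2.1
  haveI : Fintype ι := Fintype.ofFinite ι
  let B : ∀ {n : ℕ}, (Fin (n + 1) → ι) → X.Opens := fun σ => ⨅ a, U (σ a)
  have hB : ∀ {n : ℕ} (σ : Fin (n + 1) → ι), Le U σ (B σ) := fun σ a => iInf_le _ a
  have hgood : ∀ {n : ℕ} (σ : Fin (n + 1) → ι),
      IsCompact (B σ : Set X) ∧ IsQuasiSeparated (B σ : Set X) := fun σ =>
    (KFlatLib.qcCovers X).inter hU σ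
  choose j a ha using fun σ : Fin (p + 2) → ι =>
    exists_rep hc (hgood σ).1 (hgood σ).2 (q σ ⟨B σ, hB σ⟩)
  obtain ⟨m, hm⟩ := IsFiltered.sup_objs_exists (Finset.univ.image j)
  let φ : ∀ σ, j σ ⟶ m := fun σ => (hm (Finset.mem_image_of_mem j (Finset.mem_univ σ))).some
  let q' : Cochain (abSheaf (D.obj m)).presheaf U (p + 2) := fun σ W =>
    res (D.obj m) (show (W.1 : X.Opens) ≤ B σ from le_iInf W.2) ((D.map (φ σ)).app _ (a σ))
  have hn' : IsNatural q' := fun σ W W' h h' i =>
    res_res (D.obj m) i.le (show (W : X.Opens) ≤ B σ from le_iInf h) _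
  have hpush : push (abMap (c.ι.app m)) q' = q := by
    funext σ W
    show (c.ι.app m).app W.1 (res (D.obj m) _ ((D.map (φ σ)).app _ (a σ))) = q σ W
    refine (app_res _ _ _).trans ((congrArg (res c.pt _) ((ι_app_map c (φ σ) _ _).trans (ha σ))).trans ?_)
    exact hqn σ (B σ) W.1 (hB σ) W.2 (homOfLE (show (W.1 : X.Opens) ≤ B σ from le_iInf W.2))
  have hn'' : IsNatural (d q') := d_natural hn'
  obtain ⟨l, f, hf⟩ := exists_common m (Finset.univ : Finset (Fin (p + 3) → ι))
    (fun τ l ψ => (D.map ψ).app (B τ) (d q' τ ⟨B τ, hB τ⟩) = 0)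
    (fun τ l ψ l' χ hh => (map_comp_app ψ χ _ _).trans ((congrArg _ hh).trans (map_zero _)))
    (fun τ _ => exists_zero hc (hgood τ).1 _ (by
      have := congrFun (congrFun ((d_push (abMap (c.ι.app m)) q').symm.trans
        ((congrArg d hpush).trans hdq)) τ) ⟨B τ, hB τ⟩
      exact this))
  have hd : push (abMap (D.map f)) (d q') = 0 := by
    funext τ W
    have h2 := hn'' τ (B τ) W.1 (hB τ) W.2 (homOfLE (show (W.1 : X.Opens) ≤ B τ from le_iInf W.2))
    show (D.map f).app W.1 (d q' τ W) = 0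
    rw [← h2]
    exact (app_res (D.map f) (show (W.1 : X.Opens) ≤ B τ from le_iInf W.2) _).trans
      ((congrArg (res _ _) (hf τ (Finset.mem_univ _))).trans (map_zero _))
  obtain ⟨k, f', A, g, g', hA, hgg'⟩ := h l
  let q'' := push (abMap g) (push (abMap (D.map f)) q')
  obtain ⟨b, hb, hdb⟩ := hA V hV U hU p q'' (push_natural _ (push_natural _ hn')) (by
    rw [d_push, d_push, hd]
    funext τ W
    exact map_zero _)
  refine ⟨push (abMap (g' ≫ c.ι.app k)) b, push_natural _ hb, ?_⟩
  rw [d_push, hdb]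
  funext σ W
  refine Eq.trans ?_ (congrFun (congrFun hpush σ) W)
  have e : D.map f ≫ g ≫ g' ≫ c.ι.app k = c.ι.app m := by
    rw [← Category.assoc g, hgg', c.w, c.w]
  exact congrArg (fun ψ : D.obj m ⟶ c.pt => ψ.app W.1 (q' σ W)) e

end Groth.Agent.ColimPush7
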