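import Groth.Agent.ColimPush7.Resolve
import Groth.Agent.AModColim.Basic

/-!
# Direct images commute with filtered colimits of uniformly bounded below complexes
-/

set_option autoImplicit false
set_option linter.style.haveILetI false
set_option backward.isDefEq.respectTransparency false
set_option backward.isDefEq.respectTransparency.types false

universe u

open CategoryTheory CategoryTheory.Limits AlgebraicGeometry

attribute [local instance] HasDerivedCategory.standard

namespace Groth.Agent.ColimPush7

section General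

variable {J : Type u} [Category J] {C : Type*} [Category C] {A B : J ⥤ C}

/-- Colimit cocones are transported along compatible isomorphisms. -/
theorem nonempty_isColimit_of_natTrans {c : Cocone A} {d : Cocone B} (α : A ⟶ B) (hα : ∀ j, IsIso (α.app j))
    (e : c.pt ⟶ d.pt) [IsIso e] (w : ∀ j, c.ι.app j ≫ e = α.app j ≫ d.ι.app j) (hc : IsColimit c) :
    Nonempty (IsColimit d) := by
  haveI : IsIso α := NatIso.isIso_of_isIso_app α
  refine ⟨IsColimit.equivOfNatIsoOfIso (asIso α) c d (Cocone.ext (asIso e) fun j => ?_) hc⟩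
  show ((inv α).app j ≫ c.ι.app j) ≫ e = d.ι.app j
  rw [Category.assoc, w, ← NatTrans.comp_app_assoc, IsIso.inv_hom_id, NatTrans.id_app, Category.id_comp]

/-- The converse transport. -/
theorem nonempty_isColimit_of_natTrans' {c : Cocone A} {d : Cocone B} (α : A ⟶ B) (hα : ∀ j, IsIso (α.app j))
    (e : c.pt ⟶ d.pt) [IsIso e] (w : ∀ j, c.ι.app j ≫ e = α.app j ≫ d.ι.app j) (hd : IsColimit d) :
    Nonempty (IsColimit c) := by
  haveI : IsIso α := NatIso.isIso_of_isIso_app α
  refine ⟨IsColimit.equivOfNatIsoOfIso (asIso α).symm d c (Cocone.ext (asIso e).symm fun j => ?_) hd⟩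
  show (α.app j ≫ d.ι.app j) ≫ inv e = c.ι.app j
  rw [Category.assoc]
  rw [← reassoc_of% w j, IsIso.hom_inv_id, Category.comp_id]

/-- A compatible map of colimit cocones over an isomorphism of diagrams is an isomorphism. -/
theorem isIso_of_isColimit {c : Cocone A} {d : Cocone B} (α : A ⟶ B) (hα : ∀ j, IsIso (α.app j))
    (e : c.pt ⟶ d.pt) (w : ∀ j, c.ι.app j ≫ e = α.app j ≫ d.ι.app j) (hc : IsColimit c) (hd : IsColimit d) :
    IsIso e := by
  haveI : IsIso α := NatIso.isIso_of_isIso_app α
  have : e = (IsColimit.coconePointsIsoOfNatIso hc hd (asIso α)).hom := hc.hom_ext fun j => by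
    rw [w, IsColimit.comp_coconePointsIsoOfNatIso_hom]
    rfl
  rw [this]
  infer_instance

end General

variable {X Y : Scheme.{u}} (f : X ⟶ Y) [QuasiCompact f] [QuasiSeparated f]

theorem preservesColimitsOfShape_push (J : Type u) [SmallCategory J] [IsFiltered J] :
    PreservesColimitsOfShape J (Scheme.Modules.pushforward f) := by
  haveI := QcqsColim.preservesColimitsOfShape_RpushAb f 0 J
  haveI := QCoh.preservesFiniteLimits_pushAb f
  haveI : PreservesColimitsOfShape J (Coh.pushAb f) :=
    preservesColimitsOfShape_of_natIso (Coh.pushAb f).rightDerivedZeroIsoSelf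
  haveI := SiteBase.preservesColimitsOfSize_toSheaf X.ringCatSheaf
  haveI : PreservesColimitsOfShape J (Scheme.Modules.pushforward f ⋙ SheafOfModules.toSheaf Y.ringCatSheaf) :=
    inferInstanceAs (PreservesColimitsOfShape J (SheafOfModules.toSheaf X.ringCatSheaf ⋙ Coh.pushAb f))
  haveI := SiteBase.preservesColimitsOfSize_toSheaf Y.ringCatSheaf
  haveI : ReflectsColimitsOfSize.{u, u} (SheafOfModules.toSheaf.{u} Y.ringCatSheaf) :=
    reflectsColimits_of_reflectsIsomorphisms
  exact preservesColimitsOfShape_of_reflects_of_preserves (Scheme.Modules.pushforward f)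
    (SheafOfModules.toSheaf.{u} Y.ringCatSheaf)

variable [DCoh.HasRpush f]

/-- The homology of the naive direct image. -/
noncomputable abbrev naiveH (i : ℤ) : CochainComplex X.Modules ℤ ⥤ Y.Modules :=
  (Scheme.Modules.pushforward f).mapHomologicalComplex (ComplexShape.up ℤ) ⋙
    HomologicalComplex.homologyFunctor Y.Modules (ComplexShape.up ℤ) i

/-- The homology of the derived direct image. -/
noncomputable abbrev derH (i : ℤ) : CochainComplex X.Modules ℤ ⥤ Y.Modules :=
  DerivedCategory.Q ⋙ DCoh.Rpush f ⋙ DerivedCategory.homologyFunctor Y.Modules i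

/-- The comparison on homology. -/
noncomputable def cmpH (i : ℤ) : naiveH f i ⟶ derH f i :=
  Functor.whiskerLeft ((Scheme.Modules.pushforward f).mapHomologicalComplex (ComplexShape.up ℤ))
      (DerivedCategory.homologyFunctorFactors Y.Modules i).inv ≫
    (Functor.associator _ _ _).inv ≫
    Functor.whiskerRight (KFlatLib.rpushUnit f) (DerivedCategory.homologyFunctor Y.Modules i) ≫
    (Functor.associator _ _ _).hom

lemma isIso_cmpH (i : ℤ) (F : CochainComplex X.Modules ℤ) (h : IsIso ((KFlatLib.rpushUnit f).app F)) :
    IsIso ((cmpH f i).app F) := by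
  simp only [cmpH, NatTrans.comp_app, Functor.whiskerLeft_app, Functor.whiskerRight_app,
    Functor.associator_inv_app, Functor.associator_hom_app]
  infer_instance

lemma isIso_rpushUnit_of_cmpH (F : CochainComplex X.Modules ℤ) (h : ∀ i, IsIso ((cmpH f i).app F)) :
    IsIso ((KFlatLib.rpushUnit f).app F) := by
  refine (DerivedCategory.isIso_iff Y.Modules _).2 fun i => ?_
  have := h i
  simp only [cmpH, NatTrans.comp_app, Functor.whiskerLeft_app, Functor.whiskerRight_app,
    Functor.associator_inv_app, Functor.associator_hom_app] at this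
  erw [isIso_comp_left_iff, isIso_comp_left_iff, isIso_comp_right_iff] at this
  exact this

lemma preservesColimitsOfShape_naiveH (i : ℤ) (J : Type u) [SmallCategory J] [IsFiltered J] :
    PreservesColimitsOfShape J (naiveH f i) := by
  haveI := preservesColimitsOfShape_push f J
  haveI : PreservesColimitsOfShape J
      ((Scheme.Modules.pushforward f).mapHomologicalComplex (ComplexShape.up ℤ)) :=
    ⟨fun {K} => ⟨fun {c} hc => ⟨HomologicalComplex.isColimitOfEval _ _ fun m =>
      isColimitOfPreserves (HomologicalComplex.eval X.Modules (ComplexShape.up ℤ) m ⋙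
        Scheme.Modules.pushforward f) hc⟩⟩⟩
  haveI := FlatCxLib.preservesColimitsOfShape_complexHomology (C := Y.Modules) (J := J) (ComplexShape.up ℤ) i
  exact comp_preservesColimitsOfShape _ _

variable {J : Type u} [SmallCategory J] [IsFiltered J] {C : J ⥤ CochainComplex X.Modules ℤ}
  {c : Cocone C}

/-- Cohomology of the derived direct image commutes with filtered colimits of uniformly bounded
below complexes. -/
theorem nonempty_isColimit_derH (hc : IsColimit c) (a : ℤ) (hC : ∀ j, (C.obj j).IsGE a) (i : ℤ) :
    Nonempty (IsColimit ((derH f i).mapCocone c)) := by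
  obtain ⟨R, η, hR⟩ := exists_resolution X a
  haveI : HasInjectiveResolutions X.Modules := inferInstance
  let θ : C ⟶ C ⋙ R := Functor.whiskerLeft C η
  let d := colimit.cocone (C ⋙ R)
  let e : c.pt ⟶ d.pt := hc.map d θ
  have hstrict : CochainComplex.IsStrictlyGE d.pt a :=
    isStrictlyGE_of_isColimit (colimit.isColimit _) a fun j => (hR _ (hC j)).1
  haveI := hstrict
  have hac : ∀ F : CochainComplex X.Modules ℤ, F.IsStrictlyGE a →
      (∀ n, KFlatLib.QcAcyclic (F.X n)) → IsIso ((KFlatLib.rpushUnit f).app F) := fun F hF hq => by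
    haveI := hF
    refine KFlatLib.isIso_rpushUnit_of_isStrictlyGE f F a fun m k hk => ?_
    obtain ⟨k, rfl⟩ := Nat.exists_eq_succ_of_ne_zero (by omega : k ≠ 0)
    exact KFlatLib.isZero_Rpush_of_qcAcyclic f _ (hq m) k
  have hq : ∀ n, KFlatLib.QcAcyclic (d.pt.X n) := fun n =>
    qcAcyclic_of_isColimit
      (isColimitOfPreserves (HomologicalComplex.eval X.Modules (ComplexShape.up ℤ) n) (colimit.isColimit _))
      fun j => ⟨j, 𝟙 j, _, 𝟙 _, 𝟙 _, (hR _ (hC j)).2.1 n,
        (Category.id_comp _).trans (CategoryTheory.Functor.map_id (C ⋙ R ⋙ HomologicalComplex.eval X.Modules (ComplexShape.up ℤ) n) j).symm⟩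
  have he : QuasiIso e := by
    refine (quasiIso_iff _).2 fun k => ?_
    rw [quasiIsoAt_iff_isIso_homologyMap]
    let H := HomologicalComplex.homologyFunctor X.Modules (ComplexShape.up ℤ) k
    haveI := FlatCxLib.preservesColimitsOfShape_complexHomology (C := X.Modules) (J := J) (ComplexShape.up ℤ) k
    refine isIso_of_isColimit (c := H.mapCocone c) (d := H.mapCocone d) (Functor.whiskerRight θ H)
      (fun j => ?_) (H.map e) (fun j => ?_) (isColimitOfPreserves H hc)
      (isColimitOfPreserves H (colimit.isColimit _))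
    · haveI := (hR _ (hC j)).2.2
      exact (quasiIsoAt_iff_isIso_homologyMap (η.app (C.obj j)) k).1 inferInstance
    · show H.map _ ≫ H.map e = H.map _ ≫ H.map _
      rw [← H.map_comp, ← H.map_comp, IsColimit.ι_map]
  obtain ⟨hd⟩ : Nonempty (IsColimit ((derH f i).mapCocone d)) := by
    haveI := preservesColimitsOfShape_naiveH f i J
    haveI := isIso_cmpH f i d.pt (hac _ hstrict hq)
    exact nonempty_isColimit_of_natTrans (c := (naiveH f i).mapCocone d) (d := (derH f i).mapCocone d)
      (Functor.whiskerLeft (C ⋙ R) (cmpH f i))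
      (fun j => isIso_cmpH f i _ (hac _ (hR _ (hC j)).1 (hR _ (hC j)).2.1))
      ((cmpH f i).app d.pt) (fun j => (cmpH f i).naturality (d.ι.app j))
      (isColimitOfPreserves (naiveH f i) (colimit.isColimit _))
  haveI := he
  haveI : IsIso (DerivedCategory.Q.map e) := inferInstance
  haveI : IsIso ((derH f i).map e) :=
    Functor.map_isIso (DCoh.Rpush f ⋙ DerivedCategory.homologyFunctor Y.Modules i) (DerivedCategory.Q.map e)
  exact nonempty_isColimit_of_natTrans' (c := (derH f i).mapCocone c) (d := (derH f i).mapCocone d)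
    (Functor.whiskerRight θ (derH f i))
    (fun j => by
      haveI := (hR _ (hC j)).2.2
      haveI : IsIso (DerivedCategory.Q.map (η.app (C.obj j))) := inferInstance
      exact Functor.map_isIso (DCoh.Rpush f ⋙ DerivedCategory.homologyFunctor Y.Modules i)
        (DerivedCategory.Q.map (η.app (C.obj j))))
    ((derH f i).map e) (fun j => by
      show (derH f i).map _ ≫ (derH f i).map e = (derH f i).map _ ≫ (derH f i).map _
      rw [← Functor.map_comp, ← Functor.map_comp, IsColimit.ι_map]) hd

/-- A filtered colimit of uniformly bounded below complexes computing the direct image computes it. -/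
theorem isIso_rpushUnit_colimit (hc : IsColimit c) (a : ℤ) (hC : ∀ j, (C.obj j).IsGE a)
    (hac : ∀ j, IsIso ((KFlatLib.rpushUnit f).app (C.obj j))) :
    IsIso ((KFlatLib.rpushUnit f).app c.pt) := by
  refine isIso_rpushUnit_of_cmpH f _ fun i => ?_
  haveI := preservesColimitsOfShape_naiveH f i J
  exact isIso_of_isColimit (c := (naiveH f i).mapCocone c) (d := (derH f i).mapCocone c)
    (Functor.whiskerLeft C (cmpH f i)) (fun j => isIso_cmpH f i _ (hac j)) _
    (fun j => (cmpH f i).naturality (c.ι.app j)) (isColimitOfPreserves _ hc)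
    (nonempty_isColimit_derH f hc a hC i).some

end Groth.Agent.ColimPush7
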