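import Groth.Agent.ColimPush7.Main
import Groth.Agent.KFlatLib.Scheme.RpushCoprodQCoh

/-!
# Direct images commute with filtered colimits of complexes with quasi-coherent cohomology
-/

set_option autoImplicit false
set_option linter.style.haveILetI false
set_option backward.isDefEq.respectTransparency false
set_option backward.isDefEq.respectTransparency.types false

universe u

open CategoryTheory CategoryTheory.Limits AlgebraicGeometry

attribute [local instance] HasDerivedCategory.standard

namespace Groth.Agent.ColimPush7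

variable {X Y : Scheme.{u}} (f : X ⟶ Y) [QuasiCompact f] [QuasiSeparated f] [DCoh.HasRpush f]

/-- Homology of a complex in terms of the derived category, naturally. -/
lemma isIso_h_of_isIso_homologyMap {M N : CochainComplex X.Modules ℤ} (φ : M ⟶ N) (i : ℤ)
    (h : IsIso (HomologicalComplex.homologyMap φ i)) :
    IsIso ((DerivedCategory.homologyFunctor X.Modules i).map (DerivedCategory.Q.map φ)) :=
  (NatIso.isIso_map_iff (DerivedCategory.homologyFunctorFactors X.Modules i) φ).2 h

/-- Cohomology sheaves of complexes and of their classes. -/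
lemma isQCoh_homology_iff (M : CochainComplex X.Modules ℤ) (i : ℤ) :
    Coh.IsQCoh (DCoh.HD (DerivedCategory.Q.obj M) i) ↔ Coh.IsQCoh (M.homology i) :=
  ⟨KFlatLib.isQCoh_of_iso ((DerivedCategory.homologyFunctorFactors X.Modules i).app M),
    KFlatLib.isQCoh_of_iso ((DerivedCategory.homologyFunctorFactors X.Modules i).app M).symm⟩

variable {J : Type u} [SmallCategory J] [IsFiltered J] {C : J ⥤ CochainComplex X.Modules ℤ}
  {c : Cocone C}

/-- The class of a filtered colimit of complexes with quasi-coherent cohomology has such cohomology. -/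
lemma isQCohD_colimit (hc : IsColimit c) (hC : ∀ j, DCoh.IsQCohD (DerivedCategory.Q.obj (C.obj j))) :
    DCoh.IsQCohD (DerivedCategory.Q.obj c.pt) := fun i => by
  let H := HomologicalComplex.homologyFunctor X.Modules (ComplexShape.up ℤ) i
  haveI := FlatCxLib.preservesColimitsOfShape_complexHomology (C := X.Modules) (J := J) (ComplexShape.up ℤ) i
  refine (isQCoh_homology_iff _ i).2 (KFlatLib.isQCoh_of_iso
    ((colimit.isColimit (C ⋙ H)).coconePointUniqueUpToIso (isColimitOfPreserves H hc)) ?_)
  exact QCoh.isQCoh_colimit (C ⋙ H) fun j => (isQCoh_homology_iff _ i).1 (hC j i)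

/-- Cohomology of the derived direct image commutes with filtered colimits of complexes with
quasi-coherent cohomology. -/
theorem nonempty_isColimit_derH_qcoh (hc : IsColimit c)
    (hC : ∀ j, DCoh.IsQCohD (DerivedCategory.Q.obj (C.obj j))) (k : ℤ) :
    Nonempty (IsColimit ((derH f k).mapCocone c)) := by
  let κ := colimit.desc (C ⋙ derH f k) ((derH f k).mapCocone c)
  suffices hκ : IsIso κ by
    haveI : IsIso ((colimit.isColimit (C ⋙ derH f k)).desc ((derH f k).mapCocone c)) := hκ
    exact ⟨IsColimit.ofPointIso (colimit.isColimit (C ⋙ derH f k))⟩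
  refine KFlatLib.isIso_of_isIso_restrict _ fun y => ?_
  obtain ⟨_, ⟨U, hU, rfl⟩, hyU, -⟩ :=
    Y.isBasis_affineOpens.exists_subset_of_mem_open (Set.mem_univ y) isOpen_univ
  refine ⟨U, hyU, ?_⟩
  obtain ⟨N₀, hN⟩ := KFlatLib.exists_Rpush_bound_near f hU
  let N := k.natAbs + N₀ + 2
  let E := ComplexShape.embeddingUpIntGE (-(N : ℤ))
  let π : C ⟶ C ⋙ trunc X (-(N : ℤ)) := Functor.whiskerLeft C (E.πTruncGENatTrans X.Modules)
  let d := colimit.cocone (C ⋙ trunc X (-(N : ℤ)))
  let e : c.pt ⟶ d.pt := hc.map d π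
  let R := Scheme.Modules.restrictFunctor (Scheme.Opens.ι (X := Y) U)
  let Φ := derH f k ⋙ R
  haveI : R.IsLeftAdjoint := (Scheme.Modules.restrictAdjunction _).isLeftAdjoint
  have hH : ∀ (M : CochainComplex X.Modules ℤ) (i : ℤ), -(N : ℤ) ≤ i →
      IsIso (HomologicalComplex.homologyMap (HomologicalComplex.πTruncGE M E) i) := fun M i hi => by
    obtain ⟨m, rfl⟩ : ∃ m : ℕ, E.f m = i := ⟨(i + N).toNat, by
      show -(N : ℤ) + ((i + N).toNat : ℤ) = i
      omega⟩
    exact (quasiIsoAt_iff_isIso_homologyMap _ _).1 inferInstance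
  have hC' : ∀ j, DCoh.IsQCohD (DerivedCategory.Q.obj ((C ⋙ trunc X (-(N : ℤ))).obj j)) := fun j i => by
    refine (isQCoh_homology_iff _ i).2 ?_
    by_cases hi : -(N : ℤ) ≤ i
    · haveI := hH (C.obj j) i hi
      exact KFlatLib.isQCoh_of_iso (asIso (HomologicalComplex.homologyMap (HomologicalComplex.πTruncGE (C.obj j) E) i))
        ((isQCoh_homology_iff _ i).1 (hC j i))
    · refine KFlatLib.isQCoh_of_isZero ?_
      haveI := isStrictlyGE_trunc (-(N : ℤ)) (C.obj j)
      exact (HomologicalComplex.exactAt_iff_isZero_homology _ _).1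
        (CochainComplex.exactAt_of_isGE ((trunc X (-(N : ℤ))).obj (C.obj j)) (-(N : ℤ)) i (by omega))
  have hc' := colimit.isColimit (C ⋙ trunc X (-(N : ℤ)))
  haveI hΦπ : ∀ j, IsIso (Φ.map (π.app j)) := fun j =>
    KFlatLib.isIso_restrict_rpush_of_isIso_h f (hC j) (hC' j) _ U N₀ hN k N le_rfl
      fun i hi => isIso_h_of_isIso_homologyMap _ i (hH (C.obj j) i hi)
  haveI : IsIso (Φ.map e) := by
    refine KFlatLib.isIso_restrict_rpush_of_isIso_h f (isQCohD_colimit hc hC) (isQCohD_colimit hc' hC')
      _ U N₀ hN k N le_rfl fun i hi => isIso_h_of_isIso_homologyMap _ i ?_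
    let H := HomologicalComplex.homologyFunctor X.Modules (ComplexShape.up ℤ) i
    haveI := FlatCxLib.preservesColimitsOfShape_complexHomology (C := X.Modules) (J := J) (ComplexShape.up ℤ) i
    refine isIso_of_isColimit (c := H.mapCocone c) (d := H.mapCocone d) (Functor.whiskerRight π H)
      (fun j => hH (C.obj j) i hi) (H.map e) (fun j => ?_) (isColimitOfPreserves H hc)
      (isColimitOfPreserves H hc')
    show H.map _ ≫ H.map e = H.map _ ≫ H.map _
    rw [← H.map_comp, ← H.map_comp, IsColimit.ι_map]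
  obtain ⟨hΦ⟩ : Nonempty (IsColimit (Φ.mapCocone c)) := by
    obtain ⟨hd⟩ := nonempty_isColimit_derH f hc' (-(N : ℤ)) (fun j => by
      haveI := isStrictlyGE_trunc (-(N : ℤ)) (C.obj j)
      exact inferInstanceAs (((trunc X (-(N : ℤ))).obj (C.obj j)).IsGE (-(N : ℤ)))) k
    refine nonempty_isColimit_of_natTrans' (c := Φ.mapCocone c) (d := Φ.mapCocone d)
      (Functor.whiskerRight π Φ) hΦπ (Φ.map e) (fun j => ?_) (isColimitOfPreserves R hd)
    show Φ.map _ ≫ Φ.map e = Φ.map _ ≫ Φ.map _
    rw [← Functor.map_comp, ← Functor.map_comp, IsColimit.ι_map]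
  refine isIso_of_isColimit (c := R.mapCocone (colimit.cocone (C ⋙ derH f k))) (d := Φ.mapCocone c)
    (𝟙 (C ⋙ Φ)) (fun j => inferInstanceAs (IsIso (𝟙 _))) (R.map κ) (fun j => ?_)
    (isColimitOfPreserves R (colimit.isColimit _)) hΦ
  show R.map _ ≫ R.map κ = 𝟙 _ ≫ R.map _
  rw [← R.map_comp, Category.id_comp]
  exact congrArg R.map (colimit.ι_desc ((derH f k).mapCocone c) j)

end Groth.Agent.ColimPush7
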