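import Groth.Agent.ColimPush7.Acyclic
import Groth.Agent.HorseLib.InjEnlarge
import Groth.Agent.FlatCxLib.HomologyColim
import Groth.Agent.KFlatLib.Scheme.AcyclicPush
import Mathlib.CategoryTheory.Functor.OfSequence
import Mathlib.CategoryTheory.Limits.Constructions.EventuallyConstant
import Mathlib.Algebra.Homology.Embedding.CochainComplex

/-!
# A functorial resolution of bounded below complexes by complexes of acyclic modules
-/

set_option autoImplicit false
set_option linter.style.haveILetI false
set_option backward.isDefEq.respectTransparency false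
set_option backward.isDefEq.respectTransparency.types false

universe u

open CategoryTheory CategoryTheory.Limits AlgebraicGeometry

namespace Groth.Agent.ColimPush7

variable {X : Scheme.{u}}

/-- The truncation functor. -/
noncomputable abbrev trunc (X : Scheme.{u}) (a : ℤ) :
    CochainComplex X.Modules ℤ ⥤ CochainComplex X.Modules ℤ :=
  (ComplexShape.embeddingUpIntGE a).truncGEFunctor X.Modules

instance isStrictlyGE_trunc (a : ℤ) (M : CochainComplex X.Modules ℤ) :
    ((trunc X a).obj M).IsStrictlyGE a :=
  inferInstanceAs ((M.truncGE a).IsStrictlyGE a)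

lemma isStrictlyGE_of_isColimit {J : Type u} [Category J] {D : J ⥤ CochainComplex X.Modules ℤ}
    {c : Cocone D} [HasColimitsOfShape J X.Modules] (hc : IsColimit c) (a : ℤ)
    (h : ∀ j, (D.obj j).IsStrictlyGE a) : CochainComplex.IsStrictlyGE c.pt a := by
  rw [CochainComplex.isStrictlyGE_iff]
  intro m hm
  rw [IsZero.iff_id_eq_zero]
  refine (isColimitOfPreserves (HomologicalComplex.eval X.Modules (ComplexShape.up ℤ) m) hc).hom_ext
    fun j => ?_
  haveI := h j
  exact (CochainComplex.isZero_of_isStrictlyGE (D.obj j) a m hm).eq_of_src _ _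

/-- Bounded below complexes are functorially resolved by complexes of acyclic modules. -/
theorem exists_resolution (X : Scheme.{u}) (a : ℤ) :
    ∃ (R : CochainComplex X.Modules ℤ ⥤ CochainComplex X.Modules ℤ) (η : 𝟭 _ ⟶ R),
      ∀ M : CochainComplex X.Modules ℤ, M.IsGE a →
        (R.obj M).IsStrictlyGE a ∧ (∀ n, KFlatLib.QcAcyclic ((R.obj M).X n)) ∧ QuasiIso (η.app M) := by
  obtain ⟨N, j, hN⟩ := HorseLib.exists_enlargement (A := X.Modules)
  let πt : 𝟭 _ ⟶ trunc X a := (ComplexShape.embeddingUpIntGE a).πTruncGENatTrans X.Modules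
  let T : CochainComplex X.Modules ℤ ⥤ CochainComplex X.Modules ℤ := N ⋙ trunc X a
  let s : 𝟭 _ ⟶ T := j ≫ Functor.whiskerLeft N πt
  let F : ℕ → (CochainComplex X.Modules ℤ ⥤ CochainComplex X.Modules ℤ) :=
    fun k => Nat.rec (trunc X a) (fun _ G => G ⋙ T) k
  let st : ∀ k, F k ⟶ F (k + 1) := fun k => Functor.whiskerLeft (F k) s
  let E : CochainComplex X.Modules ℤ ⥤ ℕ ⥤ CochainComplex X.Modules ℤ := (Functor.ofSequence st).flip
  have hstrict : ∀ k M, ((F k).obj M).IsStrictlyGE a := by
    intro k M
    cases k with
    | zero => exact isStrictlyGE_trunc a M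
    | succ k => exact isStrictlyGE_trunc a _
  haveI : HasColimitsOfShape ℕ X.Modules := inferInstance
  let ι₀ : trunc X a ⟶ E ⋙ colim :=
    { app := fun M => colimit.ι (E.obj M) 0
      naturality := fun M M' f => (ι_colimMap (E.map f) 0).symm }
  refine ⟨E ⋙ colim, πt ≫ ι₀, fun M hM => ?_⟩
  have hge : ∀ k, ((E.obj M).obj k).IsStrictlyGE a := fun k => hstrict k M
  haveI := hM
  haveI : QuasiIso (πt.app M) := (CochainComplex.quasiIso_πTruncGE_iff M a).2 hM
  refine ⟨?_, fun n => ?_, ?_⟩
  · rw [CochainComplex.isStrictlyGE_iff]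
    intro m hm
    rw [IsZero.iff_id_eq_zero]
    refine (isColimitOfPreserves (HomologicalComplex.eval X.Modules (ComplexShape.up ℤ) m)
      (colimit.isColimit (E.obj M))).hom_ext fun k => ?_
    haveI := hge k
    exact (CochainComplex.isZero_of_isStrictlyGE _ a m hm).eq_of_src _ _
  · let hc := isColimitOfPreserves (HomologicalComplex.eval X.Modules (ComplexShape.up ℤ) n)
      (colimit.isColimit (E.obj M))
    let e : ULiftHom.{u} (ULift.{u} ℕ) ≌ ℕ := (ULiftHomULiftCategory.equiv.{u, u} ℕ).symm
    refine qcAcyclic_of_isColimit (hc.whiskerEquivalence e) fun k => ?_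
    obtain ⟨I, hI, x, y, -, hxy⟩ := (hN ((F (e.functor.obj k)).obj M)).2.2 n
    refine ⟨e.inverse.obj (e.functor.obj k + 1),
      e.unit.app k ≫ e.inverse.map (homOfLE (Nat.le_succ _)), I, x,
      y ≫ (πt.app (N.obj ((F (e.functor.obj k)).obj M))).f n,
      (haveI := hI; KFlatLib.qcAcyclic_of_injective I), ?_⟩
    rw [reassoc_of% hxy]
    refine Eq.trans ?_ (congrArg (fun φ => (((Functor.ofSequence st).map φ).app M).f n)
      (Subsingleton.elim (homOfLE (Nat.le_succ (e.functor.obj k)))
        (e.functor.map (e.unit.app k ≫ e.inverse.map (homOfLE (Nat.le_succ _))))))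
    exact congrArg (fun t : F (e.functor.obj k) ⟶ F (e.functor.obj k + 1) => (t.app M).f n)
      (Functor.ofSequence_map_homOfLE_succ st (e.functor.obj k)).symm
  · have hs : ∀ k, QuasiIso (s.app ((F k).obj M)) := fun k => by
      haveI := hge k
      haveI : ((F k).obj M).IsGE a := inferInstance
      haveI := (hN ((F k).obj M)).2.1
      haveI hNge : ((N.obj ((F k).obj M))).IsGE a :=
        (CochainComplex.isGE_iff _ _).2 fun i hi =>
          (HomologicalComplex.exactAt_iff_isZero_homology _ _).2
            (((HomologicalComplex.exactAt_iff_isZero_homology _ _).1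
              (CochainComplex.exactAt_of_isGE ((F k).obj M) a i hi)).of_iso
              (asIso (HomologicalComplex.homologyMap (j.app ((F k).obj M)) i)).symm)
      haveI : QuasiIso (πt.app (N.obj ((F k).obj M))) :=
        (CochainComplex.quasiIso_πTruncGE_iff _ a).2 hNge
      exact inferInstanceAs (QuasiIso (j.app _ ≫ πt.app _))
    have : QuasiIso (ι₀.app M) := by
      refine (quasiIso_iff _).2 fun i => ?_
      rw [quasiIsoAt_iff_isIso_homologyMap]
      let H := HomologicalComplex.homologyFunctor X.Modules (ComplexShape.up ℤ) i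
      haveI := FlatCxLib.preservesColimitsOfShape_complexHomology (C := X.Modules) (J := ℕ) (ComplexShape.up ℤ) i
      haveI hstep : ∀ k, IsIso ((E.obj M ⋙ H).map (homOfLE (Nat.le_succ k))) := fun k => by
        haveI := hs k
        have e : (E.obj M).map (homOfLE (Nat.le_succ k)) = s.app ((F k).obj M) :=
          congrArg (fun t : F k ⟶ F (k + 1) => t.app M)
            ((Functor.ofSequence_map_homOfLE_succ st k))
        show IsIso (H.map ((E.obj M).map _))
        rw [e]
        exact (quasiIsoAt_iff_isIso_homologyMap _ _).1 inferInstance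
      have hcst : (E.obj M ⋙ H).IsEventuallyConstantFrom 0 := fun k φ => by
        obtain rfl : φ = homOfLE k.zero_le := Subsingleton.elim _ _
        induction k with
        | zero => exact inferInstanceAs (IsIso ((E.obj M ⋙ H).map (𝟙 0)))
        | succ k ih =>
          rw [show (homOfLE (Nat.zero_le (k + 1)) : (0 : ℕ) ⟶ k + 1) =
            homOfLE k.zero_le ≫ homOfLE (Nat.le_succ k) from Subsingleton.elim _ _, Functor.map_comp]
          haveI := ih
          haveI := hstep k
          infer_instance
      exact hcst.isIso_ι_of_isColimit (isColimitOfPreserves H (colimit.isColimit (E.obj M)))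
    exact inferInstanceAs (QuasiIso (πt.app M ≫ ι₀.app M))

end Groth.Agent.ColimPush7
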