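import Groth.Agent.ZClosLib.ColimSections

/-!
# Sections over compact quasi-separated opens of filtered colimits of modules
-/

set_option autoImplicit false
set_option linter.style.haveILetI false
set_option backward.isDefEq.respectTransparency false
set_option backward.isDefEq.respectTransparency.types false

universe u

open CategoryTheory CategoryTheory.Limits AlgebraicGeometry TopologicalSpace Opposite

namespace Groth.Agent.ColimPush7

open Groth.Agent.ZClosLib (res res_res app_res res_eq_of_cover exists_glue stalkMap stalkMap_germ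
  exists_res_eq_of_germ_eq)

/-- Finitely many eventual conditions in a filtered category hold at a common stage. -/
theorem exists_common {J : Type u} [SmallCategory J] [IsFiltered J] (k : J) {α : Type u} (T : Finset α)
    (Q : α → ∀ l : J, (k ⟶ l) → Prop)
    (mono : ∀ a l (f : k ⟶ l) l' (g : l ⟶ l'), Q a l f → Q a l' (f ≫ g))
    (h : ∀ a ∈ T, ∃ l f, Q a l f) : ∃ (l : J) (f : k ⟶ l), ∀ a ∈ T, Q a l f := by
  classical
  induction T using Finset.induction_on with
  | empty => exact ⟨k, 𝟙 _, by simp⟩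
  | insert a T _ ih =>
    obtain ⟨l₁, f₁, h₁⟩ := ih fun b hb => h b (Finset.mem_insert_of_mem hb)
    obtain ⟨l₂, f₂, h₂⟩ := h a (Finset.mem_insert_self _ _)
    obtain ⟨l, g₁, g₂, e⟩ := IsFiltered.span f₁ f₂
    refine ⟨l, f₁ ≫ g₁, fun b hb => ?_⟩
    rcases Finset.mem_insert.1 hb with rfl | hb
    · rw [e]
      exact mono _ _ _ _ _ h₂
    · exact mono _ _ _ _ _ (h₁ b hb)

variable {X : Scheme.{u}} {J : Type u} [SmallCategory J] [IsFiltered J] {D : J ⥤ X.Modules} {c : Cocone D}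

omit [IsFiltered J] in
theorem ι_app_map (c : Cocone D) {i k : J} (f : i ⟶ k) (V : X.Opens) (s : Γ(D.obj i, V)) :
    (c.ι.app k).app V ((D.map f).app V s) = (c.ι.app i).app V s := by
  exact congrArg (fun φ : D.obj i ⟶ c.pt => φ.app V s) (c.w f)

omit [IsFiltered J] in
theorem map_comp_app {i j k : J} (f : i ⟶ j) (g : j ⟶ k) (V : X.Opens) (s : Γ(D.obj i, V)) :
    (D.map (f ≫ g)).app V s = (D.map g).app V ((D.map f).app V s) := by
  rw [Functor.map_comp, Scheme.Modules.Hom.comp_app, ConcreteCategory.comp_apply]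

/-- A section vanishing in a filtered colimit over a compact open vanishes at a stage. -/
theorem exists_zero (hc : IsColimit c) {V : X.Opens} (hV : IsCompact (V : Set X)) {i : J}
    (s : Γ(D.obj i, V)) (h : (c.ι.app i).app V s = 0) :
    ∃ (k : J) (f : i ⟶ k), (D.map f).app V s = 0 := by
  classical
  have key : ∀ x : V, ∃ (k : J) (f : i ⟶ k) (W : X.Opens) (hW : W ≤ V), x.1 ∈ W ∧
      res _ hW ((D.map f).app V s) = 0 := fun x => by
    have h' : stalkMap (c.ι.app i) x.1 ((D.obj i).presheaf.germ V x.1 x.2 s) =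
        stalkMap (c.ι.app i) x.1 0 := by
      rw [stalkMap_germ, h, map_zero, map_zero]
    obtain ⟨k, f, g, e⟩ := (Concrete.isColimit_rep_eq_iff_exists _
      (isColimitOfPreserves (KFlatLib.stalkAb x.1) hc) _ _).1 h'
    have e' : stalkMap (D.map f) x.1 ((D.obj i).presheaf.germ V x.1 x.2 s) =
        (D.obj k).presheaf.germ V x.1 x.2 0 := by
      rw [map_zero]
      exact e.trans (map_zero _)
    rw [stalkMap_germ] at e'
    obtain ⟨W, h₁, h₂, hxW, e''⟩ := exists_res_eq_of_germ_eq _ x.2 x.2 _ _ e'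
    exact ⟨k, f, W, h₁, hxW, e''.trans (map_zero _)⟩
  choose k f W hW hxW he using key
  obtain ⟨T, hT⟩ := hV.elim_finite_subcover (fun x : V => (W x : Set X)) (fun x => (W x).2)
    fun x hx => Set.mem_iUnion.2 ⟨⟨x, hx⟩, hxW ⟨x, hx⟩⟩
  obtain ⟨m, g, hg⟩ := exists_common i T (fun a l φ => res _ (hW a) ((D.map φ).app V s) = 0)
    (fun a l φ l' ψ hφ => by
      rw [map_comp_app, ← app_res, hφ, map_zero])
    (fun a _ => ⟨k a, f a, he a⟩)
  refine ⟨m, g, res_eq_of_cover _ (fun a : T => W a.1) (fun a => hW _) (fun x hx => ?_) _ _ fun a => ?_⟩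
  · obtain ⟨a, ha, hxa⟩ := Set.mem_iUnion₂.1 (hT hx)
    exact ⟨⟨a, ha⟩, hxa⟩
  · exact (hg a.1 a.2).trans (map_zero _).symm

/-- A section of a filtered colimit over a compact quasi-separated open comes from a stage. -/
theorem exists_rep (hc : IsColimit c) {V : X.Opens} (hV : IsCompact (V : Set X))
    (hq : IsQuasiSeparated (V : Set X)) (s : Γ(c.pt, V)) :
    ∃ (j : J) (a : Γ(D.obj j, V)), (c.ι.app j).app V a = s := by
  classical
  have key : ∀ x : V, ∃ (j : J) (W : X.Opens) (hW : W ≤ V) (a : Γ(D.obj j, W)), x.1 ∈ W ∧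
      IsCompact (W : Set X) ∧ (c.ι.app j).app W a = res c.pt hW s := fun x => by
    obtain ⟨j, y, hy⟩ := Concrete.isColimit_exists_rep _ (isColimitOfPreserves (KFlatLib.stalkAb x.1) hc)
      (c.pt.presheaf.germ V x.1 x.2 s)
    obtain ⟨U, hxU, a, rfl⟩ := TopCat.Presheaf.germ_exist (D.obj j).presheaf y
    replace hy : stalkMap (c.ι.app j) x.1 ((D.obj j).presheaf.germ U x.1 hxU a) =
      c.pt.presheaf.germ V x.1 x.2 s := hy
    rw [stalkMap_germ] at hy
    obtain ⟨W₀, h₁, h₂, hx₀, e⟩ := exists_res_eq_of_germ_eq _ hxU x.2 _ _ hy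
    obtain ⟨_, ⟨W, hWaff, rfl⟩, hxW, hle⟩ :=
      X.isBasis_affineOpens.exists_subset_of_mem_open (show x.1 ∈ W₀ from hx₀) W₀.2
    refine ⟨j, W, (show W ≤ W₀ from hle).trans h₂, res _ ((show W ≤ W₀ from hle).trans h₁) a, hxW,
      hWaff.isCompact, ?_⟩
    rw [app_res, ← res_res _ (show W ≤ W₀ from hle) h₁, e]
    exact res_res c.pt _ _ s
  choose j W hW a hxW hWc he using key
  obtain ⟨T, hT⟩ := hV.elim_finite_subcover (fun x : V => (W x : Set X)) (fun x => (W x).2)
    fun x hx => Set.mem_iUnion.2 ⟨⟨x, hx⟩, hxW ⟨x, hx⟩⟩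
  obtain ⟨m, hm⟩ := IsFiltered.sup_objs_exists (T.image j)
  let φ : ∀ p : T, j p.1 ⟶ m := fun p => (hm (Finset.mem_image_of_mem j p.2)).some
  let b : ∀ p : T, Γ(D.obj m, W p.1) := fun p => (D.map (φ p)).app _ (a p.1)
  have hb : ∀ p, (c.ι.app m).app _ (b p) = res c.pt (hW p.1) s := fun p => by rw [ι_app_map, he]
  obtain ⟨n, g, hg⟩ := exists_common m (Finset.univ : Finset (T × T))
    (fun pq l ψ => (D.map ψ).app _ (res _ (inf_le_left : W pq.1.1 ⊓ W pq.2.1 ≤ _) (b pq.1) -
      res _ (inf_le_right : W pq.1.1 ⊓ W pq.2.1 ≤ _) (b pq.2)) = 0)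
    (fun pq l ψ l' χ h => by rw [map_comp_app, h, map_zero])
    (fun pq _ => exists_zero hc (hq _ _ (hW _) (W pq.1.1).2 (hWc _) (hW _) (W pq.2.1).2 (hWc _))
      _ (by
        rw [map_sub, sub_eq_zero, app_res, app_res, hb, hb]
        exact (res_res c.pt _ _ s).trans (res_res c.pt _ _ s).symm))
  obtain ⟨t, ht⟩ := exists_glue (D.obj n) (fun p : T => W p.1) (fun p => hW _) (fun x hx => by
      obtain ⟨p, hp, hxp⟩ := Set.mem_iUnion₂.1 (hT hx)
      exact ⟨⟨p, hp⟩, hxp⟩) (fun p => (D.map g).app _ (b p)) fun p q => by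
    have h := hg (p, q) (Finset.mem_univ _)
    rw [map_sub, sub_eq_zero, app_res, app_res] at h
    exact h
  refine ⟨n, t, res_eq_of_cover c.pt (fun p : T => W p.1) (fun p => hW _) (fun x hx => ?_) _ _ fun p => ?_⟩
  · obtain ⟨p, hp, hxp⟩ := Set.mem_iUnion₂.1 (hT hx)
    exact ⟨⟨p, hp⟩, hxp⟩
  · exact ((app_res (c.ι.app n) (hW p.1) t).symm.trans (congrArg _ (ht p))).trans ((ι_app_map c g _ _).trans (hb p))

end Groth.Agent.ColimPush7
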